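import Mathlib
import Cfsg.Agent.Lib.Helper53.Hup.KK
import Cfsg.Agent.Lib.Helper53.Hup.Pieces
import Cfsg.Agent.Lib.Helper96.NearFieldGroup
import Cfsg.Agent.S2904

/-!
# Huppert's theorem: the generic case (a primitive prime divisor exists)
-/

set_option autoImplicit false
set_option linter.style.haveILetI false
set_option linter.unusedSectionVars false

namespace Cfsg.Agent.Lib.Helper53.Hup

open Subgroup

universe u

variable {p : ℕ} [Fact p.Prime] {V : Type u} [AddCommGroup V] [Module (ZMod p) V] [Finite V]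
  [Nontrivial V] {G : Type*} [Group G] [Finite G] {ρ : G →* (V ≃ₗ[ZMod p] V)}

theorem comm_of_isMulCommutative {A : Subgroup G} (hAc : IsMulCommutative A) :
    ∀ a ∈ A, ∀ b ∈ A, a * b = b * a := by
  intro a ha b hb
  have := hAc.is_comm.comm (⟨a, ha⟩ : A) ⟨b, hb⟩
  exact congrArg Subtype.val this

/-- transitivity: `p ^ n - 1` divides the order of `G`. -/
theorem card_dvd_of_trans (htrans : Trans ρ) :
    p ^ Module.finrank (ZMod p) V - 1 ∣ Nat.card G := by
  classical
  obtain ⟨v₀, hv₀⟩ := exists_ne (0 : V)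
  letI : MulAction G V := MulAction.compHom V ρ
  have hsmul : ∀ (g : G) (v : V), g • v = ρ g v := fun _ _ => rfl
  have horb : MulAction.orbit G v₀ = {v : V | v ≠ 0} := by
    ext w
    constructor
    · rintro ⟨g, rfl⟩
      change ρ g v₀ ≠ 0
      simpa using hv₀
    · intro hw
      obtain ⟨g, hg⟩ := htrans v₀ w hv₀ hw
      exact ⟨g, hg⟩
  have h1 := MulAction.index_stabilizer G v₀
  have h2 : (MulAction.orbit G v₀).ncard = p ^ Module.finrank (ZMod p) V - 1 := by
    rw [horb, ← card_V (p := p) (V := V)]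
    have : {v : V | v ≠ 0} = ({0} : Set V)ᶜ := by ext v; simp
    rw [this, Set.ncard_compl, Set.ncard_singleton]
  rw [← h2, ← h1]
  exact index_dvd_card _

/-- the standing hypotheses: `A` is a maximal abelian normal subgroup of a solvable transitive linear group which
is not semilinear. -/
structure Setup (ρ : G →* (V ≃ₗ[ZMod p] V)) (A : Subgroup G) : Prop where
  inj : Function.Injective ρ
  trans : Trans ρ
  sol : Group.IsSolvable G
  ns : ¬ Semilin ρ
  normal : A.Normal
  comm : IsMulCommutative A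
  max : ∀ B : Subgroup G, B.Normal → IsMulCommutative B → A ≤ B → B = A

namespace Setup

variable {A : Subgroup G} (h : Setup ρ A)
include h

theorem comm' : ∀ a ∈ A, ∀ b ∈ A, a * b = b * a := comm_of_isMulCommutative h.comm

theorem cyc : IsCyclic A :=
  haveI := h.normal
  isCyclic_A h.trans h.inj h.comm'

theorem n_pos : 0 < Module.finrank (ZMod p) V := Module.finrank_pos

theorem exists_m : ∃ m, 0 < m ∧
    Module.finrank (ZMod p) V = Module.finrank (ZMod p) (KK ρ A) * m := by
  haveI := h.normal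
  obtain ⟨m, hm⟩ := exists_dim (A := A) h.trans
  refine ⟨m, ?_, hm⟩
  rcases Nat.eq_zero_or_pos m with h0 | h0
  · rw [h0, mul_zero] at hm
    have := h.n_pos
    omega
  · exact h0

theorem k_lt : Module.finrank (ZMod p) (KK ρ A) < Module.finrank (ZMod p) V := by
  haveI := h.normal
  obtain ⟨m, hm0, hm⟩ := h.exists_m
  have h1 : Module.finrank (ZMod p) (KK ρ A) ≤ Module.finrank (ZMod p) V := by
    rw [hm]
    exact Nat.le_mul_of_pos_right _ hm0
  rcases h1.lt_or_eq with h2 | h2
  · exact h2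
  · exact absurd (semilin_of_finrank (A := A) h.trans h2) h.ns

theorem irr_of_ppd {t : ℕ} (ht : PPD p (Module.finrank (ZMod p) V) t) {x : G}
    (hx : orderOf x = t) (W : Submodule (ZMod p) V) (hW : ∀ v ∈ W, ρ x v ∈ W) :
    W = ⊥ ∨ W = ⊤ :=
  ppd_irr ht (ρ x) (by rw [orderOf_injective ρ h.inj, hx]) W hW

theorem mem_centralizer_of_ppd {t : ℕ} (ht : PPD p (Module.finrank (ZMod p) V) t) {x : G}
    (hx : orderOf x = t) : x ∈ centralizer (A : Set G) := by
  haveI := h.normal
  have h1 := ppd_commute ht (ρ x) (by rw [orderOf_injective ρ h.inj, hx]) (KK ρ A) h.k_lt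
    (KK_conj x)
  rw [mem_centralizer_iff]
  intro a ha
  apply h.inj
  rw [map_mul, map_mul]
  apply LinearEquiv.toLinearMap_injective
  exact (h1 _ (mem_KK h.comm' ha)).symm

theorem not_dvd_of_ppd {t : ℕ} (ht : PPD p (Module.finrank (ZMod p) V) t) :
    ¬ t ∣ Nat.card A := by
  intro hd
  haveI := h.normal
  haveI : Fact t.Prime := ⟨ht.1⟩
  obtain ⟨a, ha⟩ := exists_prime_orderOf_dvd_card' (G := A) t hd
  apply h.ns
  apply semilin_of_irr (A := A) h.comm'
  intro W hW
  exact h.irr_of_ppd ht (x := (a : G)) (by rw [Subgroup.orderOf_coe, ha]) W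
    (fun v hv => hW a a.2 v hv)

theorem cent_le_of_ppd {t : ℕ} (ht : PPD p (Module.finrank (ZMod p) V) t) {x : G}
    (hx : orderOf x = t) {N : Subgroup G} (hN : N.Normal) (hs : SympPair A N) :
    ∀ l ∈ N, x * l = l * x → l ∈ A := by
  have hxc := h.mem_centralizer_of_ppd ht hx
  apply hs.centralizer_le (x := x) (s := t) (by rw [← hx]; exact pow_orderOf_eq_one x)
    (fun l hl => hN.conj_mem l hl x)
    (fun a ha => (mem_centralizer_iff.mp hxc a ha).symm)
  · intro a ha hat
    by_contra hne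
    haveI : Fact t.Prime := ⟨ht.1⟩
    have h1 : orderOf a = t := orderOf_eq_prime hat hne
    apply h.not_dvd_of_ppd ht
    have h2 := orderOf_dvd_natCard (⟨a, ha⟩ : A)
    rwa [Subgroup.orderOf_mk, h1] at h2
  · intro l _ l' _ h1 h2
    apply h.inj
    rw [map_mul, map_mul]
    apply LinearEquiv.toLinearMap_injective
    have e : ∀ y z : G, y * z = z * y →
        (ρ y).toLinearMap * (ρ z).toLinearMap = (ρ z).toLinearMap * (ρ y).toLinearMap := by
      intro y z hyz
      have : ρ y * ρ z = ρ z * ρ y := by rw [← map_mul, ← map_mul, hyz]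
      exact congrArg LinearEquiv.toLinearMap this
    exact comm_of_irr (ρ x) (h.irr_of_ppd ht hx) _ _ (e x l h1) (e x l' h2)

/-- the arithmetic consequences of one symplectic-type normal subgroup. -/
theorem relIndex_le {N : Subgroup G} (hNC : N ≤ centralizer (A : Set G)) (hs : SympPair A N) :
    Module.finrank (ZMod p) (KK ρ A) * A.relIndex N ≤ (Module.finrank (ZMod p) V) ^ 2 := by
  haveI := h.normal
  have h1 := indep (KK ρ A) KK_comm (KK_inj (A := A) h.trans) ρ h.inj A N hs
    (fun a ha => mem_KK h.comm' ha) (fun l hl => KK_commute (hNC hl))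
  rw [card_K, ← pow_mul] at h1
  exact (Nat.pow_le_pow_iff_right (Fact.out : p.Prime).one_lt).mp h1

theorem card_N {N : Subgroup G} (hs : SympPair A N) :
    Nat.card N = Nat.card A * A.relIndex N := by
  have h1 := (A.subgroupOf N).card_mul_index
  rw [← relIndex, Nat.card_congr (subgroupOfEquivOfLe hs.le).toEquiv] at h1
  exact h1.symm

theorem ppd_dvd {t : ℕ} (ht : PPD p (Module.finrank (ZMod p) V) t) {N : Subgroup G}
    (hN : N.Normal) (hs : SympPair A N) : t ∣ A.relIndex N - 1 := by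
  haveI : Fact t.Prime := ⟨ht.1⟩
  have hdG : t ∣ Nat.card G := ht.2.1.trans (card_dvd_of_trans h.trans)
  obtain ⟨x, hx⟩ := exists_prime_orderOf_dvd_card' (G := G) t hdG
  have h1 := card_modEq_of_conj (s := t) x (by rw [← hx]; exact pow_orderOf_eq_one x) N
    (fun l hl => hN.conj_mem l hl x)
  have h2 : N ⊓ centralizer {x} = A := by
    apply le_antisymm
    · rintro l ⟨hl, hlx⟩
      exact h.cent_le_of_ppd ht hx hN hs l hl (mem_centralizer_singleton_iff.mp hlx).symm
    · intro a ha
      refine mem_inf.mpr ⟨hs.le ha, ?_⟩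
      rw [mem_centralizer_singleton_iff]
      exact (mem_centralizer_iff.mp (h.mem_centralizer_of_ppd ht hx) a ha)
  rw [h2, h.card_N hs] at h1
  have hpos : 0 < A.relIndex N := Nat.pos_of_ne_zero (by
    intro h0
    have := h.card_N hs
    rw [h0, mul_zero] at this
    exact Nat.card_pos.ne' this)
  have h3 : t ∣ Nat.card A * A.relIndex N - Nat.card A :=
    (Nat.modEq_iff_dvd' (Nat.le_mul_of_pos_right _ hpos)).mp h1.symm
  have h4 : Nat.card A * A.relIndex N - Nat.card A = Nat.card A * (A.relIndex N - 1) := by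
    rw [Nat.mul_sub, mul_one]
  rw [h4] at h3
  exact (ht.1.dvd_mul.mp h3).resolve_left (h.not_dvd_of_ppd ht)

theorem centralizer_ne_of_mem {x : G} (hx : x ∈ centralizer (A : Set G)) (hxA : x ∉ A) :
    centralizer (A : Set G) ≠ A := by
  intro heq
  rw [heq] at hx
  exact hxA hx

theorem generic (hn : 3 ≤ Module.finrank (ZMod p) V)
    (h26 : ¬ (p = 2 ∧ Module.finrank (ZMod p) V = 6)) :
    p = 3 ∧ Module.finrank (ZMod p) V = 4 := by
  have hp : p.Prime := Fact.out
  haveI := h.normal
  obtain ⟨n, hndef⟩ : ∃ n, n = Module.finrank (ZMod p) V := ⟨_, rfl⟩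
  rw [← hndef] at hn h26 ⊢
  obtain ⟨s, hs1, hs2, hs3⟩ := Cfsg.Agent.S2904.result p n hp.one_lt (by omega) h26
    (by rintro ⟨h2, _⟩; omega)
  have hs : PPD p n s := ⟨hs1, hs2, hs3⟩
  haveI : Fact s.Prime := ⟨hs1⟩
  have hdG : p ^ n - 1 ∣ Nat.card G := hndef ▸ card_dvd_of_trans h.trans
  obtain ⟨x, hx⟩ := exists_prime_orderOf_dvd_card' (G := G) s (hs2.trans hdG)
  have hxA : x ∉ A := by
    intro hxA
    apply h.not_dvd_of_ppd (hndef ▸ hs)
    have h2 := orderOf_dvd_natCard (⟨x, hxA⟩ : A)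
    rwa [Subgroup.orderOf_mk, hx] at h2
  have hne := h.centralizer_ne_of_mem (h.mem_centralizer_of_ppd (hndef ▸ hs) hx) hxA
  obtain ⟨N, hN, hNC, hsp, r, d, hr, hd, hrel⟩ := exists_symp_prime h.sol A h.comm h.max hne
  obtain ⟨E, hE⟩ := hsp.square h.cyc
  have hle := h.relIndex_le hNC hsp
  rw [← hndef, hE] at hle
  have hkpos : 0 < Module.finrank (ZMod p) (KK ρ A) := finrank_KK_pos
  have hEn : E ≤ n := by
    have h1 : E ^ 2 ≤ n ^ 2 := le_trans (Nat.le_mul_of_pos_left _ hkpos) hle
    exact (Nat.pow_le_pow_iff_left (by norm_num)).mp h1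
  have hE2 : 2 ≤ E := by
    have h1 : 2 ≤ E ^ 2 := by
      rw [← hE, hrel]
      calc 2 ≤ r := hr.two_le
        _ = r ^ 1 := (pow_one r).symm
        _ ≤ r ^ d := Nat.pow_le_pow_right hr.pos hd
    by_contra hcon
    have : E ≤ 1 := by omega
    have : E ^ 2 ≤ 1 ^ 2 := Nat.pow_le_pow_left this 2
    omega
  have key : ∀ t, PPD p n t → E = n ∧ t = n + 1 := by
    intro t ht
    have h1 := h.ppd_dvd (hndef ▸ ht) hN hsp
    rw [hE] at h1
    exact nt_sq ht.1 h1 hE2 hEn (ht.succ_le hp (by omega))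
  obtain ⟨hEn', hsn⟩ := key s hs
  -- `n` is a power of two
  have hneven : 2 ∣ n := by
    rcases hs1.eq_two_or_odd with h2 | h2
    · omega
    · omega
  have hrd : r ^ d = n ^ 2 := by rw [← hrel, hE, hEn']
  have hr2 : r = 2 := by
    have h1 : 2 ∣ r ^ d := by rw [hrd]; exact Dvd.dvd.trans hneven (dvd_pow_self n (by norm_num))
    exact ((Nat.prime_dvd_prime_iff_eq Nat.prime_two hr).mp (Nat.prime_two.dvd_of_dvd_pow h1)).symm
  obtain ⟨e, -, he⟩ := (Nat.dvd_prime_pow Nat.prime_two).mp
    (show n ∣ 2 ^ d by rw [← hr2, hrd]; exact dvd_pow_self n (by norm_num))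
  -- `p` is odd
  have hp2 : p ≠ 2 := by
    intro hp2
    have h1 : 2 ∣ Nat.card A := hsp.prime_dvd Nat.prime_two (by
      rw [hrel, hr2]; exact dvd_pow_self 2 (by omega))
    have h2 := h1.trans (card_A_dvd (A := A) h.trans h.inj h.comm')
    generalize Module.finrank (ZMod p) (KK ρ A) = k at h2 hkpos
    have h3 : 2 ∣ p ^ k := by rw [hp2]; exact dvd_pow_self 2 (by omega)
    have h4 : 0 < p ^ k := Nat.pow_pos hp.pos
    omega
  -- the Sylow `s`-subgroup has order `s`
  have hsq : ¬ (n + 1) ^ 2 ∣ p ^ n - 1 := by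
    intro hcon
    rw [← hsn] at hcon
    obtain ⟨S, hS⟩ := Sylow.exists_subgroup_card_pow_prime (G := G) s (n := 2) (hcon.trans hdG)
    have h1 := card_dvd_of_free S N A hsp.le (fun y _ l hl => hN.conj_mem l hl y)
      (fun y _ l hl => h.normal.conj_mem l hl y) (by
        intro y hy hy1 l hl hyl
        have ho : orderOf y ∣ s ^ 2 := by
          have := orderOf_dvd_natCard (⟨y, hy⟩ : S)
          rwa [Subgroup.orderOf_mk, hS] at this
        obtain ⟨i, hi, hoi⟩ := (Nat.dvd_prime_pow hs1).mp ho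
        have hi' : i = 0 ∨ i = 1 ∨ i = 2 := by omega
        rcases hi' with rfl | rfl | rfl
        · rw [pow_zero, orderOf_eq_one_iff] at hoi
          exact absurd hoi hy1
        · rw [pow_one] at hoi
          exact h.cent_le_of_ppd (hndef ▸ hs) hoi hN hsp l hl hyl
        · have h2 : orderOf (y ^ s) = s := by
            rw [orderOf_pow_of_dvd hs1.ne_zero (by rw [hoi]; exact dvd_pow_self s (by norm_num)),
              hoi, pow_two, Nat.mul_div_cancel _ hs1.pos]
          have h3 : Commute (y ^ s) l := (show Commute y l from hyl).pow_left s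
          exact h.cent_le_of_ppd (hndef ▸ hs) h2 hN hsp l hl h3.eq)
    rw [hS, h.card_N hsp, hE, hEn'] at h1
    have h4 : Nat.card A * n ^ 2 - Nat.card A = Nat.card A * (n ^ 2 - 1) := by
      rw [Nat.mul_sub, mul_one]
    rw [h4] at h1
    have hcop : Nat.Coprime (s ^ 2) (Nat.card A) :=
      Nat.Coprime.pow_left 2 ((Nat.Prime.coprime_iff_not_dvd hs1).mpr
        (h.not_dvd_of_ppd (hndef ▸ hs)))
    have h5 : s ^ 2 ∣ n ^ 2 - 1 := hcop.dvd_of_dvd_mul_left h1
    have h6 : n ^ 2 - 1 = s * (s - 2) := by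
      rw [hsn]
      have : n + 1 - 2 = n - 1 := by omega
      rw [this]
      obtain ⟨m, rfl⟩ : ∃ m, n = m + 1 := ⟨n - 1, by omega⟩
      simp only [Nat.add_sub_cancel]
      have : (m + 1) ^ 2 = (m + 1 + 1) * m + 1 := by ring
      omega
    rw [h6, pow_two] at h5
    have h7 : s ∣ s - 2 := Nat.dvd_of_mul_dvd_mul_left hs1.pos h5
    have h8 := Nat.le_of_dvd (by omega) h7
    omega
  exact nt_final hp hp2 he hn (fun t ht => (key t ht).2) hsq

end Setup

end Cfsg.Agent.Lib.Helper53.Hup
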