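import Mathlib
import Cfsg.Agent.Lib.Helper96.NearFieldMain
import Cfsg.Agent.Lib.Helper62.SL23d
import Cfsg.Agent.Lib.Helper20.Cent

/-!
# The exceptional regular solvable linear groups: subgroups of index two
-/

set_option autoImplicit false
set_option linter.style.haveILetI false

namespace Cfsg.Agent.Lib.Helper53.Hup

open Subgroup Cfsg.Agent.Lib.Helper66 Cfsg.Agent.Lib.Helper32.FrobSL25

variable {H : Type*} [Group H]

theorem exists_index_two_of_index_pow (K : Subgroup H) [K.Normal] {a : ℕ}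
    (hK : K.index = 2 ^ (a + 1)) : ∃ M : Subgroup H, M.Normal ∧ M.index = 2 := by
  obtain ⟨M, hM⟩ := Cfsg.Agent.Lib.Helper20.Cent.exists_index_two_of_normal K hK
  exact ⟨M, normal_of_index_eq_two hM, hM⟩

theorem exists_index_two_of_sign {n : ℕ} (φ : H →* Equiv.Perm (Fin n)) (h : H)
    (hh : Equiv.Perm.sign (φ h) = -1) : ∃ M : Subgroup H, M.Normal ∧ M.index = 2 := by
  refine ⟨(Equiv.Perm.sign.comp φ).ker, inferInstance, ?_⟩
  rw [Subgroup.index_eq_two_iff]
  refine ⟨h, fun b => ?_⟩
  simp only [MonoidHom.mem_ker, MonoidHom.comp_apply, map_mul, hh]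
  rcases Int.units_eq_one_or (Equiv.Perm.sign (φ b)) with h1 | h1 <;> rw [h1] <;> decide

theorem card_alt3 : Nat.card (alternatingGroup (Fin 3)) = 3 := by
  rw [Nat.card_eq_fintype_card]
  decide

theorem exc_arith {c a i : ℕ} (h : a * i = c) (hi : i ∣ 12) (h4 : ¬ 4 ∣ a) (hi4 : i ≠ 4)
    (hc : c = 24 ∨ c = 48 ∨ c = 120 ∨ c = 528) : (c = 24 ∧ a = 2) ∨ (c = 120 ∧ a = 10) := by
  have hi12 : i ≤ 12 := Nat.le_of_dvd (by norm_num) hi
  have hi0 : 0 < i := Nat.pos_of_dvd_of_pos hi (by norm_num)
  interval_cases i <;> omega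

variable [Finite H]

theorem exc (hFC : FC H) (N A : Subgroup H) [hN : N.Normal] [hA : A.Normal]
    (ε : N ≃* QuaternionGroup 2) (hcent : centralizer (N : Set H) = A) (hAcyc : IsCyclic A)
    (hcard : Nat.card H = 24 ∨ Nat.card H = 48 ∨ Nat.card H = 120 ∨ Nat.card H = 528) :
    (∃ M : Subgroup H, M.Normal ∧ M.index = 2) ∨
    (Nat.card H = 24 ∧ Nonempty (H ≃* Matrix.SpecialLinearGroup (Fin 2) (ZMod 3))) ∨
    (Nat.card H = 120 ∧
      Nonempty (H ≃* Matrix.SpecialLinearGroup (Fin 2) (ZMod 3) × Multiplicative (ZMod 5))) := by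
  classical
  by_cases hno : ∃ M : Subgroup H, M.Normal ∧ M.index = 2
  · exact Or.inl hno
  right
  let ψ : H →* MulAut (QuaternionGroup 2) :=
    (MulAut.congr ε).toMonoidHom.comp (MulAut.conjNormal : H →* MulAut N)
  let φ : H →* Equiv.Perm (Fin 3) := Cfsg.Agent.Lib.Helper20.Fus.piHom.comp ψ
  have hψ : ∀ (h : H) (w : QuaternionGroup 2),
      ((ε.symm (ψ h w) : N) : H) = h * (ε.symm w : N) * h⁻¹ := by
    intro h w
    change ((ε.symm (ε (MulAut.conjNormal h (ε.symm w))) : N) : H) = _
    rw [MulEquiv.symm_apply_apply, MulAut.conjNormal_apply]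
  have heven : ∀ h, Equiv.Perm.sign (φ h) = 1 := by
    intro h
    rcases Int.units_eq_one_or (Equiv.Perm.sign (φ h)) with h1 | h1
    · exact h1
    · exact absurd (exists_index_two_of_sign φ h h1) hno
  have h3 : φ.ker.index ∣ 3 := by
    rw [index_ker]
    have h1 : φ.range ≤ alternatingGroup (Fin 3) := by
      rintro _ ⟨h, rfl⟩
      exact Equiv.Perm.mem_alternatingGroup.mpr (heven h)
    have h2 := card_dvd_of_le h1
    rwa [card_alt3] at h2
  have hker : φ.ker ≤ N ⊔ A := by
    intro h hh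
    rw [MonoidHom.mem_ker] at hh
    obtain ⟨u, hu⟩ := (Cfsg.Agent.Lib.Helper20.Fus.piHom_eq_one_iff (ψ h)).mp hh
    have h1 : ((ε.symm u : N) : H)⁻¹ * h ∈ A := by
      rw [← hcent, mem_centralizer_iff]
      intro m hm
      have h2 := hψ h (ε ⟨m, hm⟩)
      rw [hu, map_mul, map_mul, map_inv, MulEquiv.symm_apply_apply] at h2
      simp only [coe_mul, InvMemClass.coe_inv] at h2
      -- u m u⁻¹ = h m h⁻¹
      have h5 : m * (((ε.symm u : N) : H)⁻¹ * h) =
          ((ε.symm u : N) : H)⁻¹ * (((ε.symm u : N) : H) * m * ((ε.symm u : N) : H)⁻¹) * h := by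
        group
      rw [h5, h2]
      group
    have : h = ((ε.symm u : N) : H) * (((ε.symm u : N) : H)⁻¹ * h) := by group
    rw [this]
    exact mul_mem (le_sup_left (a := N) (b := A) (ε.symm u).2) (le_sup_right (a := N) (b := A) h1)
  have hcN : Nat.card N = 8 := by
    rw [Nat.card_congr ε.toEquiv, Nat.card_eq_fintype_card, QuaternionGroup.card]
  -- the central involution
  have hrel : A.relIndex N ∣ 4 := by
    have h1 := (A.subgroupOf N).card_mul_index
    rw [hcN] at h1
    have hz : ε.symm (QuaternionGroup.a 2) ∈ A.subgroupOf N := by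
      rw [mem_subgroupOf, ← hcent, mem_centralizer_iff]
      intro m hm
      have : (⟨m, hm⟩ : N) * ε.symm (QuaternionGroup.a 2) = ε.symm (QuaternionGroup.a 2) * ⟨m, hm⟩ := by
        apply ε.injective
        rw [map_mul, map_mul, MulEquiv.apply_symm_apply]
        generalize ε ⟨m, hm⟩ = w
        revert w
        decide
      exact congrArg Subtype.val this
    have ho : orderOf (ε.symm (QuaternionGroup.a 2)) = 2 := by
      rw [MulEquiv.orderOf_eq]
      exact orderOf_eq_prime (by decide) (by decide)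
    have h2 : 2 ∣ Nat.card (A.subgroupOf N) := by
      have := orderOf_dvd_natCard (⟨_, hz⟩ : A.subgroupOf N)
      rwa [Subgroup.orderOf_mk, ho] at this
    obtain ⟨m, hm⟩ := h2
    rw [hm] at h1
    exact ⟨m, by rw [relIndex]; nlinarith⟩
  have hidx : A.index ∣ 12 := by
    rw [← relIndex_mul_index (le_sup_right : A ≤ N ⊔ A), relIndex_sup_right]
    exact mul_dvd_mul hrel ((index_dvd_of_le hker).trans h3)
  have h4A : ¬ 4 ∣ Nat.card A := by
    intro h4
    obtain ⟨t, htA, hto⟩ := FC.exists_orderOf_four hFC A h4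
    set i : H := ((ε.symm (QuaternionGroup.a 1) : N) : H) with hi
    set j : H := ((ε.symm (QuaternionGroup.xa 0) : N) : H) with hj
    have hiN : i ∈ N := (ε.symm (QuaternionGroup.a 1)).2
    have hio : orderOf i = 4 := by
      rw [hi, Subgroup.orderOf_coe, MulEquiv.orderOf_eq]
      exact QuaternionGroup.orderOf_a_one (n := 2)
    have hij : i * j ≠ j * i := by
      intro h
      have h1 : ε.symm (QuaternionGroup.a 1) * ε.symm (QuaternionGroup.xa 0) =
          ε.symm (QuaternionGroup.xa 0) * ε.symm (QuaternionGroup.a 1) := Subtype.ext h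
      rw [← map_mul, ← map_mul, ε.symm.injective.eq_iff] at h1
      revert h1
      decide
    have hiA : i ∉ A := by
      intro h
      rw [← hcent, mem_centralizer_iff] at h
      exact hij (h j (ε.symm (QuaternionGroup.xa 0)).2).symm
    have hti : Commute t i := by
      rw [← hcent, mem_centralizer_iff] at htA
      exact (htA i hiN).symm
    have ho2 : ∀ x : H, orderOf x = 4 → orderOf (x ^ 2) = 2 := by
      intro x hx
      rw [orderOf_pow, hx]
      rfl
    have hsq : t ^ 2 = i ^ 2 :=
      FC.eq_of_orderOf_two hFC (ho2 i hio) (ho2 t hto) ((hti.pow_pow 2 2).symm)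
    have hs2 : (t * i⁻¹) ^ 2 = 1 := by
      rw [(hti.inv_right).mul_pow, hsq, inv_pow, mul_inv_cancel]
    by_cases h1 : t * i⁻¹ = 1
    · rw [mul_inv_eq_one] at h1
      exact hiA (h1 ▸ htA)
    · have h2 : orderOf (t * i⁻¹) = 2 := orderOf_eq_prime hs2 h1
      have hc : Commute (i ^ 2) (t * i⁻¹) :=
        ((hti.symm.pow_left 2).mul_right (((Commute.refl i).inv_right).pow_left 2))
      have h5 := FC.eq_of_orderOf_two hFC (ho2 i hio) h2 hc
      -- t = i^3
      have h6 : t = i ^ 3 := by
        rw [mul_inv_eq_iff_eq_mul] at h5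
        rw [h5, ← pow_succ]
      have h7 : i = t ^ 3 := by
        rw [h6, ← pow_mul]
        have : i ^ 4 = 1 := by rw [← hio]; exact pow_orderOf_eq_one i
        calc i = (i ^ 4) ^ 2 * i := by rw [this]; simp
          _ = i ^ (3 * 3) := by rw [← pow_mul, ← pow_succ]
      exact hiA (h7 ▸ A.pow_mem htA 3)
  have hi4 : A.index ≠ 4 := by
    intro h
    exact hno (exists_index_two_of_index_pow A (a := 1) (by rw [h]; rfl))
  have hcases := exc_arith A.card_mul_index hidx h4A hi4 hcard
  -- an element of order three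
  have h3H : 3 ∣ Nat.card H := by
    rcases hcases with ⟨h, -⟩ | ⟨h, -⟩ <;> rw [h] <;> norm_num
  haveI : Fact (Nat.Prime 3) := ⟨Nat.prime_three⟩
  obtain ⟨g, hg⟩ := exists_prime_orderOf_dvd_card' 3 h3H
  have hgA : g ∉ centralizer (N : Set H) := by
    rw [hcent]
    intro h
    have h1 := orderOf_dvd_natCard (⟨g, h⟩ : A)
    rw [Subgroup.orderOf_mk, hg] at h1
    rcases hcases with ⟨-, h⟩ | ⟨-, h⟩ <;> rw [h] at h1 <;> revert h1 <;> decide
  have hgN : g ∈ normalizer (N : Set H) := by
    rw [normalizer_eq_top]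
    exact mem_top g
  have hg3 : g ^ 3 = 1 := by rw [← hg]; exact pow_orderOf_eq_one g
  obtain ⟨eK⟩ := Cfsg.Agent.Lib.Helper62.nonempty_sup_equiv_SL23 ε hgN hgA hg3
  have hcK : Nat.card ↥(N ⊔ zpowers g) = 24 := by
    rw [Nat.card_congr eK.toEquiv]
    exact Cfsg.Agent.Lib.Helper62.card_SL23
  rcases hcases with ⟨hc, -⟩ | ⟨hc, hcA⟩
  · left
    refine ⟨hc, ?_⟩
    have htop : N ⊔ zpowers g = ⊤ := eq_top_of_card_eq _ (by rw [hcK, hc])
    exact ⟨(topEquiv.symm.trans (MulEquiv.subgroupCongr htop.symm)).trans eK⟩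
  · right
    refine ⟨hc, ?_⟩
    have hAtop : centralizer (A : Set H) = ⊤ := by
      have h1 : (centralizer (A : Set H)).index ∣ 4 := by
        rw [← Cfsg.Agent.Lib.Helper32.AutSL25.ker_conjNormal, index_ker]
        refine (card_subgroup_dvd_card _).trans ?_
        rw [hAcyc.card_mulAut, hcA]
        decide
      have h2 : (centralizer (A : Set H)).index ≤ 4 := Nat.le_of_dvd (by norm_num) h1
      have h0 : 0 < (centralizer (A : Set H)).index := Nat.pos_of_dvd_of_pos h1 (by norm_num)
      rw [← index_eq_one]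
      by_contra hne
      have : (centralizer (A : Set H)).index = 2 ∨ (centralizer (A : Set H)).index = 4 := by
        generalize (centralizer (A : Set H)).index = k at *
        interval_cases k
        · exact absurd rfl hne
        · left; rfl
        · revert h1; decide
        · right; rfl
      rcases this with h | h
      · exact hno (exists_index_two_of_index_pow _ (a := 0) (by rw [h]; rfl))
      · exact hno (exists_index_two_of_index_pow _ (a := 1) (by rw [h]; rfl))
    haveI : Fact (Nat.Prime 5) := ⟨by norm_num⟩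
    obtain ⟨c, hc5⟩ := exists_prime_orderOf_dvd_card' (G := A) 5 (by rw [hcA]; norm_num)
    have hc5' : orderOf (c : H) = 5 := by rw [Subgroup.orderOf_coe, hc5]
    have hcc : ∀ x : H, Commute x (c : H) := by
      intro x
      have : x ∈ centralizer (A : Set H) := by rw [hAtop]; exact mem_top x
      rw [mem_centralizer_iff] at this
      exact (this c c.2).symm
    let f : ↥(N ⊔ zpowers g) × ↥(zpowers (c : H)) →* H :=
      MonoidHom.noncommCoprod (N ⊔ zpowers g).subtype (zpowers (c : H)).subtype (by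
        intro x y
        obtain ⟨k, hk⟩ := mem_zpowers_iff.mp y.2
        change Commute (x : H) (y : H)
        rw [← hk]
        exact (hcc x).zpow_right k)
    have hcZ : Nat.card ↥(zpowers (c : H)) = 5 := by rw [Nat.card_zpowers, hc5']
    have hdisj : (N ⊔ zpowers g) ⊓ zpowers (c : H) = ⊥ :=
      (disjoint_of_coprime_natCard (by rw [hcK, hcZ]; decide)).eq_bot
    have hfinj : Function.Injective f := by
      rw [injective_iff_map_eq_one]
      rintro ⟨x, y⟩ hxy
      have h1 : (x : H) * (y : H) = 1 := hxy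
      have h2 : (x : H) = (y : H)⁻¹ := eq_inv_of_mul_eq_one_left h1
      have h3 : (x : H) ∈ (N ⊔ zpowers g) ⊓ zpowers (c : H) :=
        ⟨x.2, h2 ▸ (zpowers (c : H)).inv_mem y.2⟩
      rw [hdisj, mem_bot] at h3
      have h4 : (y : H) = 1 := by rw [h3, one_mul] at h1; exact h1
      exact Prod.ext (Subtype.ext h3) (Subtype.ext h4)
    have hfbij : Function.Bijective f := by
      rw [Nat.bijective_iff_injective_and_card]
      refine ⟨hfinj, ?_⟩
      rw [Nat.card_prod, hcK, hcZ, hc]
    have e5 : ↥(zpowers (c : H)) ≃* Multiplicative (ZMod 5) :=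
      mulEquivOfPrimeCardEq (p := 5) hcZ (by
        rw [Nat.card_eq_fintype_card, Fintype.card_multiplicative, ZMod.card])
    exact ⟨(MulEquiv.ofBijective f hfbij).symm.trans (MulEquiv.prodCongr eK e5)⟩

end Cfsg.Agent.Lib.Helper53.Hup
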