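import Mathlib
import Cfsg.Agent.Lib.Helper53.Hup.Core
import Cfsg.Agent.Lib.Helper32.AutSL25

/-!
# Huppert's theorem: dimension two, and `2 ^ 6`
-/

set_option autoImplicit false
set_option linter.style.haveILetI false
set_option linter.unusedSectionVars false

namespace Cfsg.Agent.Lib.Helper53.Hup

open Subgroup

universe u

variable {p : ℕ} [Fact p.Prime] {V : Type u} [AddCommGroup V] [Module (ZMod p) V] [Finite V]
  [Nontrivial V] {G : Type*} [Group G] [Finite G] {ρ : G →* (V ≃ₗ[ZMod p] V)}

namespace Setup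

variable {A : Subgroup G} (h : Setup ρ A)
include h

theorem ne_top : A ≠ ⊤ := by
  intro htop
  apply h.ns
  haveI := h.normal
  apply semilin_of_irr (A := A) h.comm'
  intro W hW
  by_cases hb : W = ⊥
  · exact Or.inl hb
  right
  obtain ⟨w, hwW, hw0⟩ := (Submodule.ne_bot_iff W).mp hb
  rw [eq_top_iff]
  intro v _
  by_cases hv : v = 0
  · rw [hv]; exact W.zero_mem
  obtain ⟨g, hg⟩ := h.trans w v hw0 hv
  rw [← hg]
  exact hW g (by rw [htop]; exact mem_top g) w hwW

theorem relIndex_pos {N : Subgroup G} : 0 < A.relIndex N :=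
  Nat.pos_of_ne_zero (by
    rw [relIndex]
    exact index_ne_zero_of_finite)

theorem two (hn : Module.finrank (ZMod p) V = 2) : p + 1 ∣ 24 ∧ p ≠ 2 := by
  have hp : p.Prime := Fact.out
  haveI := h.normal
  have hk : Module.finrank (ZMod p) (KK ρ A) = 1 := by
    have h1 := h.k_lt
    have h2 : 0 < Module.finrank (ZMod p) (KK ρ A) := finrank_KK_pos
    omega
  have hAZ : A ≤ center G := le_center_of_finrank_one h.inj h.comm' hk
  have hCtop : centralizer (A : Set G) = ⊤ := by
    rw [eq_top_iff]
    intro g _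
    rw [mem_centralizer_iff]
    intro a ha
    exact (mem_center_iff.mp (hAZ ha) g).symm
  obtain ⟨L, hL, hLC, hsp, hCL⟩ := exists_symp_max h.sol A h.comm h.max
  rw [hCtop, top_inf_eq] at hCL
  obtain ⟨E, hE⟩ := hsp.square h.cyc
  have hle := h.relIndex_le hLC hsp
  rw [hk, hn, hE, one_mul] at hle
  have hEpos : 0 < E ^ 2 := hE ▸ h.relIndex_pos
  have hE2 : E = 2 := by
    have h1 : E ≤ 2 := (Nat.pow_le_pow_iff_left (by norm_num)).mp hle
    have h0 : E ≠ 0 := by rintro rfl; simp at hEpos
    have h1' : E ≠ 1 := by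
      rintro rfl
      rw [one_pow, relIndex_eq_one] at hE
      have hLA : L = A := le_antisymm hE hsp.le
      rw [hLA, hCtop] at hCL
      exact h.ne_top (eq_top_iff.mpr hCL)
    omega
  rw [hE2] at hE
  have h24 := index_dvd_24 A L h.cyc hAZ hsp (by rw [hE]; norm_num) hCL
  have hA1 := card_A_dvd (A := A) h.trans h.inj h.comm'
  rw [hk, pow_one] at hA1
  have hG := card_dvd_of_trans h.trans
  rw [hn, ← A.card_mul_index] at hG
  have h1 : p ^ 2 - 1 ∣ (p - 1) * 24 := hG.trans (mul_dvd_mul hA1 h24)
  have h2 : p ^ 2 - 1 = (p - 1) * (p + 1) := by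
    obtain ⟨m, rfl⟩ : ∃ m, p = m + 1 := ⟨p - 1, by have := hp.pos; omega⟩
    simp only [Nat.add_sub_cancel]
    have : (m + 1) ^ 2 = m * (m + 1 + 1) + 1 := by ring
    omega
  rw [h2] at h1
  refine ⟨Nat.dvd_of_mul_dvd_mul_left (by have := hp.two_le; omega) h1, ?_⟩
  intro hp2
  have h3 : 2 ∣ Nat.card A := hsp.prime_dvd Nat.prime_two (by rw [hE]; norm_num)
  have h4 := h3.trans hA1
  rw [hp2] at h4
  omega

theorem E_cases {N : Subgroup G} (hs : SympPair A N) {E q : ℕ} (hq : q.Prime)
    (hE : A.relIndex N = E ^ 2) (hA : Nat.card A ∣ q) {r : ℕ} (hr : r.Prime) (hrE : r ∣ E) :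
    r = q ∧ Nat.card A = q := by
  have h1 : r ∣ Nat.card A := hs.prime_dvd hr (by rw [hE]; exact hrE.trans (dvd_pow_self E (by norm_num)))
  have h2 : r = q := (Nat.prime_dvd_prime_iff_eq hr hq).mp (h1.trans hA)
  refine ⟨h2, ?_⟩
  rcases (Nat.dvd_prime hq).mp hA with h3 | h3
  · rw [h3] at h1
    exact absurd (Nat.dvd_one.mp h1) hr.one_lt.ne'
  · exact h3

theorem twosix (hp2 : p = 2) (hn : Module.finrank (ZMod p) V = 6) : False := by
  haveI := h.normal
  obtain ⟨m, hm0, hm⟩ := h.exists_m
  have hklt := h.k_lt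
  have hkpos : 0 < Module.finrank (ZMod p) (KK ρ A) := finrank_KK_pos
  have hA1 := card_A_dvd (A := A) h.trans h.inj h.comm'
  have hG := card_dvd_of_trans h.trans
  have hle : ∀ N : Subgroup G, N ≤ centralizer (A : Set G) → SympPair A N →
      Module.finrank (ZMod p) (KK ρ A) * A.relIndex N ≤ 36 := by
    intro N h1 h2
    have := h.relIndex_le h1 h2
    rw [hn] at this
    exact this
  rw [hn] at hm hklt hG
  generalize Module.finrank (ZMod p) (KK ρ A) = k at hm hklt hkpos hA1 hle
  rw [hp2] at hA1 hG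
  have hG63 : 63 ∣ Nat.card G := by
    have : (2 : ℕ) ^ 6 - 1 = 63 := by norm_num
    rwa [this] at hG
  have hk : k = 1 ∨ k = 2 ∨ k = 3 := by
    have h1 : k ∣ 6 := ⟨m, hm⟩
    have h2 : k ≤ 5 := by omega
    interval_cases k
    · left; rfl
    · right; left; rfl
    · right; right; rfl
    · revert h1; decide
    · revert h1; decide
  rcases hk with rfl | rfl | rfl
  · -- `A = 1`
    have hA : Nat.card A = 1 := Nat.dvd_one.mp (by simpa using hA1)
    have hne : centralizer (A : Set G) ≠ A := by
      intro heq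
      have hbot : A = ⊥ := (card_eq_one).mp hA
      rw [hbot] at heq
      have : centralizer ((⊥ : Subgroup G) : Set G) = ⊤ := by
        rw [eq_top_iff]
        intro g _
        rw [mem_centralizer_iff]
        intro a ha
        have : a = 1 := ha
        rw [this, one_mul, mul_one]
      rw [this] at heq
      exact h.ne_top (hbot.trans heq.symm)
    obtain ⟨N, hN, hNC, hsp, r, d, hr, hd, hrel⟩ := exists_symp_prime h.sol A h.comm h.max hne
    have h1 : r ∣ Nat.card A := hsp.prime_dvd hr (by rw [hrel]; exact dvd_pow_self r (by omega))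
    rw [hA] at h1
    exact hr.one_lt.ne' (Nat.dvd_one.mp h1)
  · -- `|K| = 4`
    have hA3 : Nat.card A ∣ 3 := by simpa using hA1
    haveI : Fact (Nat.Prime 7) := ⟨by norm_num⟩
    obtain ⟨y, hy⟩ := exists_prime_orderOf_dvd_card' (G := G) 7 (Dvd.dvd.trans (by norm_num) hG63)
    have hy7 : y ^ 7 = 1 := by rw [← hy]; exact pow_orderOf_eq_one y
    have hyA : y ∉ A := by
      intro hyA
      have h2 := orderOf_dvd_natCard (⟨y, hyA⟩ : A)
      rw [Subgroup.orderOf_mk, hy] at h2
      have := h2.trans hA3
      omega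
    have hmod : ∀ X : Subgroup G, X.Normal →
        Nat.card X ≡ Nat.card (X ⊓ centralizer {y} : Subgroup G) [MOD 7] :=
      fun X hX => card_modEq_of_conj (s := 7) y hy7 X (fun l hl => hX.conj_mem l hl y)
    have hcen : ∀ X : Subgroup G, Nat.card (X ⊓ centralizer {y} : Subgroup G) = Nat.card X →
        y ∈ centralizer (X : Set G) := by
      intro X hX
      have h1 : X ⊓ centralizer {y} = X := eq_of_le_of_card_ge inf_le_left hX.ge
      rw [mem_centralizer_iff]
      intro l hl
      have h2 : l ∈ X ⊓ centralizer {y} := by rw [h1]; exact hl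
      exact (mem_centralizer_singleton_iff.mp h2.2)
    have hA3' : Nat.card A ≤ 3 := Nat.le_of_dvd (by norm_num) hA3
    have hyC : y ∈ centralizer (A : Set G) := by
      apply hcen
      have h1 := hmod A h.normal
      have h2 : Nat.card (A ⊓ centralizer {y} : Subgroup G) ≤ Nat.card A :=
        Nat.le_of_dvd Nat.card_pos (card_dvd_of_le inf_le_left)
      exact (Nat.ModEq.eq_of_lt_of_lt h1 (by omega) (by omega)).symm
    obtain ⟨L, hL, hLC, hsp, hCL⟩ := exists_symp_max h.sol A h.comm h.max
    obtain ⟨E, hE⟩ := hsp.square h.cyc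
    have h3 := hle L hLC hsp
    rw [hE] at h3
    have hE4 : E ≤ 4 := by nlinarith
    have hE0 : 0 < E := by
      rcases Nat.eq_zero_or_pos E with h0 | h0
      · have := h.relIndex_pos (N := L)
        rw [hE, h0] at this
        simp at this
      · exact h0
    have hyL : y ∈ centralizer (L : Set G) := by
      have hE' : E = 1 ∨ E = 2 ∨ E = 3 ∨ E = 4 := by omega
      rcases hE' with rfl | rfl | rfl | rfl
      · rw [one_pow, relIndex_eq_one] at hE
        have hLA : L = A := le_antisymm hE hsp.le
        rw [hLA]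
        exact hyC
      · have := (h.E_cases hsp (by norm_num : Nat.Prime 3) hE hA3 Nat.prime_two (by norm_num)).1
        omega
      · have hA := (h.E_cases hsp (by norm_num : Nat.Prime 3) hE hA3 Nat.prime_three
          (by norm_num)).2
        have hcL : Nat.card L = 27 := by rw [h.card_N hsp, hE, hA]; norm_num
        apply hcen
        have h1 := hmod L hL
        have h2 : Nat.card (L ⊓ centralizer {y} : Subgroup G) ∣ 27 := by
          rw [← hcL]; exact card_dvd_of_le inf_le_left
        rw [hcL] at h1 ⊢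
        generalize Nat.card (L ⊓ centralizer {y} : Subgroup G) = c at h1 h2 ⊢
        have hc : c ≤ 27 := Nat.le_of_dvd (by norm_num) h2
        unfold Nat.ModEq at h1
        interval_cases c <;> first | rfl | omega
      · have := (h.E_cases hsp (by norm_num : Nat.Prime 3) hE hA3 Nat.prime_two (by norm_num)).1
        omega
    exact hyA (hCL ⟨hyC, hyL⟩)
  · -- `|K| = 8`
    have hA7 : Nat.card A ∣ 7 := by simpa using hA1
    have hidx : (centralizer (A : Set G)).index ∣ 6 := by
      rw [← Cfsg.Agent.Lib.Helper32.AutSL25.ker_conjNormal, index_ker]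
      refine (card_subgroup_dvd_card _).trans ?_
      rw [h.cyc.card_mulAut]
      rcases (Nat.dvd_prime (by norm_num : Nat.Prime 7)).mp hA7 with h1 | h1 <;> rw [h1] <;> decide
    have h3C : 3 ∣ Nat.card (centralizer (A : Set G)) := by
      have h1 := (centralizer (A : Set G)).card_mul_index
      have h2 : 9 ∣ Nat.card (centralizer (A : Set G)) * (centralizer (A : Set G)).index := by
        rw [h1]; exact Dvd.dvd.trans (by norm_num) hG63
      generalize Nat.card (centralizer (A : Set G)) = c at h2 ⊢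
      generalize (centralizer (A : Set G)).index = i at h2 hidx
      have hi : i ≤ 6 := Nat.le_of_dvd (by norm_num) hidx
      interval_cases i <;> omega
    haveI : Fact (Nat.Prime 3) := ⟨by norm_num⟩
    obtain ⟨z, hz⟩ := exists_prime_orderOf_dvd_card' (G := centralizer (A : Set G)) 3 h3C
    have hzA : (z : G) ∉ A := by
      intro hzA
      have h2 := orderOf_dvd_natCard (⟨(z : G), hzA⟩ : A)
      rw [Subgroup.orderOf_mk, Subgroup.orderOf_coe, hz] at h2
      have := h2.trans hA7
      omega
    have hne := h.centralizer_ne_of_mem z.2 hzA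
    obtain ⟨N, hN, hNC, hsp, r, d, hr, hd, hrel⟩ := exists_symp_prime h.sol A h.comm h.max hne
    have h1 : r ∣ Nat.card A := hsp.prime_dvd hr (by rw [hrel]; exact dvd_pow_self r (by omega))
    have h2 : r = 7 := (Nat.prime_dvd_prime_iff_eq hr (by norm_num)).mp (h1.trans hA7)
    obtain ⟨E, hE⟩ := hsp.square h.cyc
    have h3 := hle N hNC hsp
    have h4 : 7 ∣ E ^ 2 := by rw [← hE, hrel, h2]; exact dvd_pow_self 7 (by omega)
    have h5 : 7 ∣ E := (by norm_num : Nat.Prime 7).dvd_of_dvd_pow h4
    have h6 : 0 < E := by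
      rcases Nat.eq_zero_or_pos E with h0 | h0
      · have := h.relIndex_pos (N := N)
        rw [hE, h0] at this
        simp at this
      · exact h0
    have h7 : 7 ≤ E := Nat.le_of_dvd h6 h5
    rw [hE] at h3
    nlinarith

end Setup

end Cfsg.Agent.Lib.Helper53.Hup
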